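/-
Words carrying the first root to every vector of norm two.
-/
import Mathlib.Data.Nat.Notation

namespace CfsgLib.Spor.Fi22.O7

def orbitWords0 : List (List ℕ) := [
  [],
  [1],
  [2],
  [0, 1],
  [2, 1],
  [3, 1],
  [1, 2, 1],
  [2, 0, 1],
  [3, 0, 1],
  [3, 2, 1],
  [6, 2, 1],
  [1, 2, 0, 1],
  [3, 1, 2, 1],
  [3, 2, 0, 1],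
  [4, 2, 0, 1],
  [4, 3, 2, 1],
  [6, 1, 2, 1],
  [6, 2, 0, 1],
  [6, 3, 2, 1],
  [7, 6, 2, 1],
  [0, 1, 2, 0, 1],
  [2, 3, 2, 0, 1],
  [2, 6, 3, 2, 1],
  [3, 1, 2, 0, 1],
  [4, 3, 1, 2, 1],
  [4, 3, 2, 0, 1],
  [5, 4, 3, 2, 1],
  [6, 1, 2, 0, 1],
  [6, 3, 1, 2, 1],
  [6, 3, 2, 0, 1],
  [6, 4, 2, 0, 1],
  [6, 4, 3, 2, 1],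
  [7, 6, 1, 2, 1],
  [7, 6, 2, 0, 1],
  [7, 6, 3, 2, 1],
  [1, 2, 6, 3, 2, 1],
  [2, 3, 1, 2, 0, 1],
  [2, 6, 1, 2, 0, 1],
  [2, 6, 3, 1, 2, 1],
  [2, 6, 3, 2, 0, 1],
  [2, 6, 4, 3, 2, 1],
  [3, 0, 1, 2, 0, 1],
  [4, 2, 3, 2, 0, 1],
  [4, 3, 1, 2, 0, 1],
  [5, 4, 3, 1, 2, 1],
  [5, 4, 3, 2, 0, 1],
  [6, 0, 1, 2, 0, 1],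
  [6, 2, 3, 2, 0, 1],
  [6, 3, 1, 2, 0, 1],
  [6, 4, 3, 1, 2, 1],
  [6, 4, 3, 2, 0, 1],
  [6, 5, 4, 3, 2, 1],
  [7, 2, 6, 3, 2, 1],
  [7, 6, 1, 2, 0, 1],
  [7, 6, 3, 1, 2, 1],
  [7, 6, 3, 2, 0, 1],
  [7, 6, 4, 2, 0, 1],
  [7, 6, 4, 3, 2, 1],
  [1, 2, 6, 3, 1, 2, 1],
  [1, 2, 6, 4, 3, 2, 1]]

def orbitWords1 : List (List ℕ) := [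
  [2, 3, 0, 1, 2, 0, 1],
  [2, 6, 0, 1, 2, 0, 1],
  [2, 6, 2, 3, 2, 0, 1],
  [2, 6, 4, 3, 1, 2, 1],
  [2, 6, 4, 3, 2, 0, 1],
  [2, 6, 5, 4, 3, 2, 1],
  [3, 2, 6, 4, 3, 2, 1],
  [4, 2, 3, 1, 2, 0, 1],
  [4, 3, 0, 1, 2, 0, 1],
  [5, 4, 2, 3, 2, 0, 1],
  [5, 4, 3, 1, 2, 0, 1],
  [6, 3, 0, 1, 2, 0, 1],
  [6, 4, 2, 3, 2, 0, 1],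
  [6, 4, 3, 1, 2, 0, 1],
  [6, 5, 4, 3, 1, 2, 1],
  [6, 5, 4, 3, 2, 0, 1],
  [6, 7, 2, 6, 3, 2, 1],
  [7, 1, 2, 6, 3, 2, 1],
  [7, 2, 6, 1, 2, 0, 1],
  [7, 2, 6, 3, 1, 2, 1],
  [7, 2, 6, 3, 2, 0, 1],
  [7, 2, 6, 4, 3, 2, 1],
  [7, 6, 0, 1, 2, 0, 1],
  [7, 6, 2, 3, 2, 0, 1],
  [7, 6, 3, 1, 2, 0, 1],
  [7, 6, 4, 3, 1, 2, 1],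
  [7, 6, 4, 3, 2, 0, 1],
  [7, 6, 5, 4, 3, 2, 1],
  [1, 2, 6, 4, 3, 1, 2, 1],
  [1, 2, 6, 5, 4, 3, 2, 1],
  [2, 6, 4, 2, 3, 2, 0, 1],
  [2, 6, 5, 4, 3, 1, 2, 1],
  [2, 6, 5, 4, 3, 2, 0, 1],
  [3, 1, 2, 6, 4, 3, 2, 1],
  [3, 2, 6, 4, 3, 1, 2, 1],
  [3, 2, 6, 4, 3, 2, 0, 1],
  [3, 2, 6, 5, 4, 3, 2, 1],
  [3, 4, 2, 3, 1, 2, 0, 1],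
  [4, 2, 3, 0, 1, 2, 0, 1],
  [5, 4, 2, 3, 1, 2, 0, 1],
  [5, 4, 3, 0, 1, 2, 0, 1],
  [6, 4, 3, 0, 1, 2, 0, 1],
  [6, 5, 4, 2, 3, 2, 0, 1],
  [6, 5, 4, 3, 1, 2, 0, 1],
  [6, 7, 1, 2, 6, 3, 2, 1],
  [6, 7, 2, 6, 1, 2, 0, 1],
  [6, 7, 2, 6, 3, 1, 2, 1],
  [6, 7, 2, 6, 3, 2, 0, 1],
  [6, 7, 2, 6, 4, 3, 2, 1],
  [7, 1, 2, 6, 3, 1, 2, 1],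
  [7, 1, 2, 6, 4, 3, 2, 1],
  [7, 2, 6, 0, 1, 2, 0, 1],
  [7, 2, 6, 2, 3, 2, 0, 1],
  [7, 2, 6, 4, 3, 1, 2, 1],
  [7, 2, 6, 4, 3, 2, 0, 1],
  [7, 2, 6, 5, 4, 3, 2, 1],
  [7, 3, 2, 6, 4, 3, 2, 1],
  [7, 6, 3, 0, 1, 2, 0, 1],
  [7, 6, 4, 2, 3, 2, 0, 1],
  [7, 6, 4, 3, 1, 2, 0, 1]]

def orbitWords2 : List (List ℕ) := [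
  [7, 6, 5, 4, 3, 1, 2, 1],
  [7, 6, 5, 4, 3, 2, 0, 1],
  [1, 2, 6, 5, 4, 3, 1, 2, 1],
  [2, 3, 1, 2, 6, 4, 3, 2, 1],
  [2, 6, 5, 4, 2, 3, 2, 0, 1],
  [2, 6, 7, 1, 2, 6, 3, 2, 1],
  [3, 1, 2, 6, 4, 3, 1, 2, 1],
  [3, 1, 2, 6, 5, 4, 3, 2, 1],
  [3, 2, 6, 4, 2, 3, 2, 0, 1],
  [3, 2, 6, 5, 4, 3, 1, 2, 1],
  [3, 2, 6, 5, 4, 3, 2, 0, 1],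
  [3, 4, 2, 3, 0, 1, 2, 0, 1],
  [4, 3, 2, 6, 5, 4, 3, 2, 1],
  [5, 3, 4, 2, 3, 1, 2, 0, 1],
  [5, 4, 2, 3, 0, 1, 2, 0, 1],
  [6, 5, 4, 3, 0, 1, 2, 0, 1],
  [6, 7, 1, 2, 6, 3, 1, 2, 1],
  [6, 7, 1, 2, 6, 4, 3, 2, 1],
  [6, 7, 2, 6, 0, 1, 2, 0, 1],
  [6, 7, 2, 6, 2, 3, 2, 0, 1],
  [6, 7, 2, 6, 4, 3, 1, 2, 1],
  [6, 7, 2, 6, 4, 3, 2, 0, 1],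
  [6, 7, 2, 6, 5, 4, 3, 2, 1],
  [6, 7, 3, 2, 6, 4, 3, 2, 1],
  [7, 1, 2, 6, 4, 3, 1, 2, 1],
  [7, 1, 2, 6, 5, 4, 3, 2, 1],
  [7, 2, 6, 4, 2, 3, 2, 0, 1],
  [7, 2, 6, 5, 4, 3, 1, 2, 1],
  [7, 2, 6, 5, 4, 3, 2, 0, 1],
  [7, 3, 1, 2, 6, 4, 3, 2, 1],
  [7, 3, 2, 6, 4, 3, 1, 2, 1],
  [7, 3, 2, 6, 4, 3, 2, 0, 1],
  [7, 3, 2, 6, 5, 4, 3, 2, 1],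
  [7, 6, 4, 3, 0, 1, 2, 0, 1],
  [7, 6, 5, 4, 2, 3, 2, 0, 1],
  [7, 6, 5, 4, 3, 1, 2, 0, 1],
  [2, 3, 1, 2, 6, 4, 3, 1, 2, 1],
  [2, 3, 1, 2, 6, 5, 4, 3, 2, 1],
  [2, 6, 7, 1, 2, 6, 3, 1, 2, 1],
  [2, 6, 7, 1, 2, 6, 4, 3, 2, 1],
  [2, 6, 7, 3, 2, 6, 4, 3, 2, 1],
  [3, 1, 2, 6, 5, 4, 3, 1, 2, 1],
  [3, 2, 6, 5, 4, 2, 3, 2, 0, 1],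
  [3, 2, 6, 7, 1, 2, 6, 3, 2, 1],
  [4, 3, 1, 2, 6, 5, 4, 3, 2, 1],
  [4, 3, 2, 6, 5, 4, 3, 1, 2, 1],
  [4, 3, 2, 6, 5, 4, 3, 2, 0, 1],
  [4, 5, 3, 4, 2, 3, 1, 2, 0, 1],
  [5, 3, 4, 2, 3, 0, 1, 2, 0, 1],
  [6, 2, 3, 1, 2, 6, 4, 3, 2, 1],
  [6, 7, 1, 2, 6, 4, 3, 1, 2, 1],
  [6, 7, 1, 2, 6, 5, 4, 3, 2, 1],
  [6, 7, 2, 6, 4, 2, 3, 2, 0, 1],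
  [6, 7, 2, 6, 5, 4, 3, 1, 2, 1],
  [6, 7, 2, 6, 5, 4, 3, 2, 0, 1],
  [6, 7, 3, 1, 2, 6, 4, 3, 2, 1],
  [6, 7, 3, 2, 6, 4, 3, 1, 2, 1],
  [6, 7, 3, 2, 6, 4, 3, 2, 0, 1],
  [6, 7, 3, 2, 6, 5, 4, 3, 2, 1],
  [7, 1, 2, 6, 5, 4, 3, 1, 2, 1]]

def orbitWords3 : List (List ℕ) := [
  [7, 2, 3, 1, 2, 6, 4, 3, 2, 1],
  [7, 2, 6, 5, 4, 2, 3, 2, 0, 1],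
  [7, 3, 1, 2, 6, 4, 3, 1, 2, 1],
  [7, 3, 1, 2, 6, 5, 4, 3, 2, 1],
  [7, 3, 2, 6, 4, 2, 3, 2, 0, 1],
  [7, 3, 2, 6, 5, 4, 3, 1, 2, 1],
  [7, 3, 2, 6, 5, 4, 3, 2, 0, 1],
  [7, 4, 3, 2, 6, 5, 4, 3, 2, 1],
  [7, 6, 5, 4, 3, 0, 1, 2, 0, 1],
  [1, 2, 6, 7, 3, 2, 6, 4, 3, 2, 1],
  [2, 3, 1, 2, 6, 5, 4, 3, 1, 2, 1],
  [2, 6, 7, 1, 2, 6, 4, 3, 1, 2, 1],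
  [2, 6, 7, 1, 2, 6, 5, 4, 3, 2, 1],
  [2, 6, 7, 3, 1, 2, 6, 4, 3, 2, 1],
  [2, 6, 7, 3, 2, 6, 4, 3, 1, 2, 1],
  [2, 6, 7, 3, 2, 6, 4, 3, 2, 0, 1],
  [2, 6, 7, 3, 2, 6, 5, 4, 3, 2, 1],
  [3, 2, 6, 7, 1, 2, 6, 3, 1, 2, 1],
  [3, 2, 6, 7, 1, 2, 6, 4, 3, 2, 1],
  [4, 2, 3, 1, 2, 6, 5, 4, 3, 2, 1],
  [4, 3, 1, 2, 6, 5, 4, 3, 1, 2, 1],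
  [4, 3, 2, 6, 5, 4, 2, 3, 2, 0, 1],
  [4, 3, 2, 6, 7, 1, 2, 6, 3, 2, 1],
  [4, 5, 3, 4, 2, 3, 0, 1, 2, 0, 1],
  [6, 2, 3, 1, 2, 6, 4, 3, 1, 2, 1],
  [6, 2, 3, 1, 2, 6, 5, 4, 3, 2, 1],
  [6, 7, 1, 2, 6, 5, 4, 3, 1, 2, 1],
  [6, 7, 2, 3, 1, 2, 6, 4, 3, 2, 1],
  [6, 7, 2, 6, 5, 4, 2, 3, 2, 0, 1],
  [6, 7, 3, 1, 2, 6, 4, 3, 1, 2, 1],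
  [6, 7, 3, 1, 2, 6, 5, 4, 3, 2, 1],
  [6, 7, 3, 2, 6, 4, 2, 3, 2, 0, 1],
  [6, 7, 3, 2, 6, 5, 4, 3, 1, 2, 1],
  [6, 7, 3, 2, 6, 5, 4, 3, 2, 0, 1],
  [6, 7, 4, 3, 2, 6, 5, 4, 3, 2, 1],
  [7, 2, 3, 1, 2, 6, 4, 3, 1, 2, 1],
  [7, 2, 3, 1, 2, 6, 5, 4, 3, 2, 1],
  [7, 3, 1, 2, 6, 5, 4, 3, 1, 2, 1],
  [7, 3, 2, 6, 5, 4, 2, 3, 2, 0, 1],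
  [7, 4, 3, 1, 2, 6, 5, 4, 3, 2, 1],
  [7, 4, 3, 2, 6, 5, 4, 3, 1, 2, 1],
  [7, 4, 3, 2, 6, 5, 4, 3, 2, 0, 1],
  [7, 6, 2, 3, 1, 2, 6, 4, 3, 2, 1],
  [0, 1, 2, 6, 7, 3, 2, 6, 4, 3, 2, 1],
  [1, 2, 6, 7, 3, 1, 2, 6, 4, 3, 2, 1],
  [1, 2, 6, 7, 3, 2, 6, 4, 3, 1, 2, 1],
  [1, 2, 6, 7, 3, 2, 6, 4, 3, 2, 0, 1],
  [1, 2, 6, 7, 3, 2, 6, 5, 4, 3, 2, 1],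
  [2, 6, 7, 1, 2, 6, 5, 4, 3, 1, 2, 1],
  [2, 6, 7, 2, 3, 1, 2, 6, 4, 3, 2, 1],
  [2, 6, 7, 3, 1, 2, 6, 4, 3, 1, 2, 1],
  [2, 6, 7, 3, 1, 2, 6, 5, 4, 3, 2, 1],
  [2, 6, 7, 3, 2, 6, 4, 2, 3, 2, 0, 1],
  [2, 6, 7, 3, 2, 6, 5, 4, 3, 1, 2, 1],
  [2, 6, 7, 3, 2, 6, 5, 4, 3, 2, 0, 1],
  [2, 6, 7, 4, 3, 2, 6, 5, 4, 3, 2, 1],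
  [3, 2, 6, 7, 1, 2, 6, 4, 3, 1, 2, 1],
  [3, 2, 6, 7, 1, 2, 6, 5, 4, 3, 2, 1],
  [3, 2, 6, 7, 3, 1, 2, 6, 4, 3, 2, 1],
  [3, 4, 2, 3, 1, 2, 6, 5, 4, 3, 2, 1]]

def orbitWords4 : List (List ℕ) := [
  [4, 2, 3, 1, 2, 6, 5, 4, 3, 1, 2, 1],
  [4, 3, 2, 6, 7, 1, 2, 6, 3, 1, 2, 1],
  [4, 3, 2, 6, 7, 1, 2, 6, 4, 3, 2, 1],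
  [5, 4, 3, 2, 6, 7, 1, 2, 6, 3, 2, 1],
  [6, 2, 3, 1, 2, 6, 5, 4, 3, 1, 2, 1],
  [6, 4, 2, 3, 1, 2, 6, 5, 4, 3, 2, 1],
  [6, 7, 2, 3, 1, 2, 6, 4, 3, 1, 2, 1],
  [6, 7, 2, 3, 1, 2, 6, 5, 4, 3, 2, 1],
  [6, 7, 3, 1, 2, 6, 5, 4, 3, 1, 2, 1],
  [6, 7, 3, 2, 6, 5, 4, 2, 3, 2, 0, 1],
  [6, 7, 4, 3, 1, 2, 6, 5, 4, 3, 2, 1],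
  [6, 7, 4, 3, 2, 6, 5, 4, 3, 1, 2, 1],
  [6, 7, 4, 3, 2, 6, 5, 4, 3, 2, 0, 1],
  [6, 7, 6, 2, 3, 1, 2, 6, 4, 3, 2, 1],
  [7, 2, 3, 1, 2, 6, 5, 4, 3, 1, 2, 1],
  [7, 4, 2, 3, 1, 2, 6, 5, 4, 3, 2, 1],
  [7, 4, 3, 1, 2, 6, 5, 4, 3, 1, 2, 1],
  [7, 4, 3, 2, 6, 5, 4, 2, 3, 2, 0, 1],
  [7, 6, 2, 3, 1, 2, 6, 4, 3, 1, 2, 1],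
  [7, 6, 2, 3, 1, 2, 6, 5, 4, 3, 2, 1],
  [0, 1, 2, 6, 7, 3, 1, 2, 6, 4, 3, 2, 1],
  [0, 1, 2, 6, 7, 3, 2, 6, 4, 3, 1, 2, 1],
  [0, 1, 2, 6, 7, 3, 2, 6, 4, 3, 2, 0, 1],
  [0, 1, 2, 6, 7, 3, 2, 6, 5, 4, 3, 2, 1],
  [1, 2, 6, 7, 2, 3, 1, 2, 6, 4, 3, 2, 1],
  [1, 2, 6, 7, 3, 1, 2, 6, 4, 3, 1, 2, 1],
  [1, 2, 6, 7, 3, 1, 2, 6, 5, 4, 3, 2, 1],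
  [1, 2, 6, 7, 3, 2, 6, 4, 2, 3, 2, 0, 1],
  [1, 2, 6, 7, 3, 2, 6, 5, 4, 3, 1, 2, 1],
  [1, 2, 6, 7, 3, 2, 6, 5, 4, 3, 2, 0, 1],
  [1, 2, 6, 7, 4, 3, 2, 6, 5, 4, 3, 2, 1],
  [2, 6, 7, 2, 3, 1, 2, 6, 4, 3, 1, 2, 1],
  [2, 6, 7, 2, 3, 1, 2, 6, 5, 4, 3, 2, 1],
  [2, 6, 7, 3, 1, 2, 6, 5, 4, 3, 1, 2, 1],
  [2, 6, 7, 3, 2, 6, 5, 4, 2, 3, 2, 0, 1],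
  [2, 6, 7, 4, 3, 1, 2, 6, 5, 4, 3, 2, 1],
  [2, 6, 7, 4, 3, 2, 6, 5, 4, 3, 1, 2, 1],
  [2, 6, 7, 4, 3, 2, 6, 5, 4, 3, 2, 0, 1],
  [2, 6, 7, 6, 2, 3, 1, 2, 6, 4, 3, 2, 1],
  [3, 1, 2, 6, 7, 3, 1, 2, 6, 4, 3, 2, 1],
  [3, 2, 6, 7, 1, 2, 6, 5, 4, 3, 1, 2, 1],
  [3, 2, 6, 7, 2, 3, 1, 2, 6, 4, 3, 2, 1],
  [3, 2, 6, 7, 3, 1, 2, 6, 4, 3, 1, 2, 1],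
  [3, 2, 6, 7, 3, 1, 2, 6, 5, 4, 3, 2, 1],
  [3, 2, 6, 7, 4, 3, 2, 6, 5, 4, 3, 2, 1],
  [3, 4, 2, 3, 1, 2, 6, 5, 4, 3, 1, 2, 1],
  [4, 3, 2, 6, 7, 1, 2, 6, 4, 3, 1, 2, 1],
  [4, 3, 2, 6, 7, 1, 2, 6, 5, 4, 3, 2, 1],
  [4, 3, 2, 6, 7, 3, 1, 2, 6, 4, 3, 2, 1],
  [5, 4, 3, 2, 6, 7, 1, 2, 6, 3, 1, 2, 1],
  [5, 4, 3, 2, 6, 7, 1, 2, 6, 4, 3, 2, 1],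
  [6, 3, 4, 2, 3, 1, 2, 6, 5, 4, 3, 2, 1],
  [6, 4, 2, 3, 1, 2, 6, 5, 4, 3, 1, 2, 1],
  [6, 7, 2, 3, 1, 2, 6, 5, 4, 3, 1, 2, 1],
  [6, 7, 4, 2, 3, 1, 2, 6, 5, 4, 3, 2, 1],
  [6, 7, 4, 3, 1, 2, 6, 5, 4, 3, 1, 2, 1],
  [6, 7, 4, 3, 2, 6, 5, 4, 2, 3, 2, 0, 1],
  [6, 7, 6, 2, 3, 1, 2, 6, 4, 3, 1, 2, 1],
  [6, 7, 6, 2, 3, 1, 2, 6, 5, 4, 3, 2, 1],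
  [7, 3, 4, 2, 3, 1, 2, 6, 5, 4, 3, 2, 1]]

def orbitWords5 : List (List ℕ) := [
  [7, 4, 2, 3, 1, 2, 6, 5, 4, 3, 1, 2, 1],
  [7, 6, 2, 3, 1, 2, 6, 5, 4, 3, 1, 2, 1],
  [7, 6, 4, 2, 3, 1, 2, 6, 5, 4, 3, 2, 1],
  [0, 1, 2, 6, 7, 2, 3, 1, 2, 6, 4, 3, 2, 1],
  [0, 1, 2, 6, 7, 3, 1, 2, 6, 4, 3, 1, 2, 1],
  [0, 1, 2, 6, 7, 3, 1, 2, 6, 5, 4, 3, 2, 1],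
  [0, 1, 2, 6, 7, 3, 2, 6, 4, 2, 3, 2, 0, 1],
  [0, 1, 2, 6, 7, 3, 2, 6, 5, 4, 3, 1, 2, 1],
  [0, 1, 2, 6, 7, 3, 2, 6, 5, 4, 3, 2, 0, 1],
  [0, 1, 2, 6, 7, 4, 3, 2, 6, 5, 4, 3, 2, 1],
  [1, 2, 6, 7, 2, 3, 1, 2, 6, 4, 3, 1, 2, 1],
  [1, 2, 6, 7, 2, 3, 1, 2, 6, 5, 4, 3, 2, 1],
  [1, 2, 6, 7, 3, 1, 2, 6, 5, 4, 3, 1, 2, 1],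
  [1, 2, 6, 7, 3, 2, 6, 5, 4, 2, 3, 2, 0, 1],
  [1, 2, 6, 7, 4, 3, 1, 2, 6, 5, 4, 3, 2, 1],
  [1, 2, 6, 7, 4, 3, 2, 6, 5, 4, 3, 1, 2, 1],
  [1, 2, 6, 7, 4, 3, 2, 6, 5, 4, 3, 2, 0, 1],
  [1, 2, 6, 7, 6, 2, 3, 1, 2, 6, 4, 3, 2, 1],
  [2, 6, 3, 4, 2, 3, 1, 2, 6, 5, 4, 3, 2, 1],
  [2, 6, 7, 2, 3, 1, 2, 6, 5, 4, 3, 1, 2, 1],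
  [2, 6, 7, 4, 2, 3, 1, 2, 6, 5, 4, 3, 2, 1],
  [2, 6, 7, 4, 3, 1, 2, 6, 5, 4, 3, 1, 2, 1],
  [2, 6, 7, 4, 3, 2, 6, 5, 4, 2, 3, 2, 0, 1],
  [2, 6, 7, 6, 2, 3, 1, 2, 6, 4, 3, 1, 2, 1],
  [2, 6, 7, 6, 2, 3, 1, 2, 6, 5, 4, 3, 2, 1],
  [3, 0, 1, 2, 6, 7, 3, 1, 2, 6, 4, 3, 2, 1],
  [3, 1, 2, 6, 7, 2, 3, 1, 2, 6, 4, 3, 2, 1],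
  [3, 1, 2, 6, 7, 3, 1, 2, 6, 4, 3, 1, 2, 1],
  [3, 1, 2, 6, 7, 3, 1, 2, 6, 5, 4, 3, 2, 1],
  [3, 1, 2, 6, 7, 4, 3, 2, 6, 5, 4, 3, 2, 1],
  [3, 2, 6, 7, 2, 3, 1, 2, 6, 4, 3, 1, 2, 1],
  [3, 2, 6, 7, 2, 3, 1, 2, 6, 5, 4, 3, 2, 1],
  [3, 2, 6, 7, 3, 1, 2, 6, 5, 4, 3, 1, 2, 1],
  [3, 2, 6, 7, 4, 3, 1, 2, 6, 5, 4, 3, 2, 1],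
  [3, 2, 6, 7, 4, 3, 2, 6, 5, 4, 3, 1, 2, 1],
  [3, 2, 6, 7, 4, 3, 2, 6, 5, 4, 3, 2, 0, 1],
  [3, 2, 6, 7, 6, 2, 3, 1, 2, 6, 4, 3, 2, 1],
  [4, 3, 1, 2, 6, 7, 3, 1, 2, 6, 4, 3, 2, 1],
  [4, 3, 2, 6, 7, 1, 2, 6, 5, 4, 3, 1, 2, 1],
  [4, 3, 2, 6, 7, 2, 3, 1, 2, 6, 4, 3, 2, 1],
  [4, 3, 2, 6, 7, 3, 1, 2, 6, 4, 3, 1, 2, 1],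
  [4, 3, 2, 6, 7, 3, 1, 2, 6, 5, 4, 3, 2, 1],
  [5, 4, 3, 2, 6, 7, 1, 2, 6, 4, 3, 1, 2, 1],
  [5, 4, 3, 2, 6, 7, 1, 2, 6, 5, 4, 3, 2, 1],
  [5, 4, 3, 2, 6, 7, 3, 1, 2, 6, 4, 3, 2, 1],
  [6, 3, 4, 2, 3, 1, 2, 6, 5, 4, 3, 1, 2, 1],
  [6, 7, 3, 4, 2, 3, 1, 2, 6, 5, 4, 3, 2, 1],
  [6, 7, 4, 2, 3, 1, 2, 6, 5, 4, 3, 1, 2, 1],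
  [6, 7, 6, 2, 3, 1, 2, 6, 5, 4, 3, 1, 2, 1],
  [6, 7, 6, 4, 2, 3, 1, 2, 6, 5, 4, 3, 2, 1],
  [7, 3, 4, 2, 3, 1, 2, 6, 5, 4, 3, 1, 2, 1],
  [7, 6, 3, 4, 2, 3, 1, 2, 6, 5, 4, 3, 2, 1],
  [7, 6, 4, 2, 3, 1, 2, 6, 5, 4, 3, 1, 2, 1],
  [0, 1, 2, 6, 7, 2, 3, 1, 2, 6, 4, 3, 1, 2, 1],
  [0, 1, 2, 6, 7, 2, 3, 1, 2, 6, 5, 4, 3, 2, 1],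
  [0, 1, 2, 6, 7, 3, 1, 2, 6, 5, 4, 3, 1, 2, 1],
  [0, 1, 2, 6, 7, 3, 2, 6, 5, 4, 2, 3, 2, 0, 1],
  [0, 1, 2, 6, 7, 4, 3, 1, 2, 6, 5, 4, 3, 2, 1],
  [0, 1, 2, 6, 7, 4, 3, 2, 6, 5, 4, 3, 1, 2, 1],
  [0, 1, 2, 6, 7, 4, 3, 2, 6, 5, 4, 3, 2, 0, 1]]

def orbitWords6 : List (List ℕ) := [
  [0, 1, 2, 6, 7, 6, 2, 3, 1, 2, 6, 4, 3, 2, 1],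
  [1, 2, 6, 3, 4, 2, 3, 1, 2, 6, 5, 4, 3, 2, 1],
  [1, 2, 6, 7, 2, 3, 1, 2, 6, 5, 4, 3, 1, 2, 1],
  [1, 2, 6, 7, 4, 2, 3, 1, 2, 6, 5, 4, 3, 2, 1],
  [1, 2, 6, 7, 4, 3, 1, 2, 6, 5, 4, 3, 1, 2, 1],
  [1, 2, 6, 7, 4, 3, 2, 6, 5, 4, 2, 3, 2, 0, 1],
  [1, 2, 6, 7, 6, 2, 3, 1, 2, 6, 4, 3, 1, 2, 1],
  [1, 2, 6, 7, 6, 2, 3, 1, 2, 6, 5, 4, 3, 2, 1],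
  [2, 3, 1, 2, 6, 7, 2, 3, 1, 2, 6, 4, 3, 2, 1],
  [2, 3, 1, 2, 6, 7, 4, 3, 2, 6, 5, 4, 3, 2, 1],
  [2, 6, 3, 4, 2, 3, 1, 2, 6, 5, 4, 3, 1, 2, 1],
  [2, 6, 7, 3, 4, 2, 3, 1, 2, 6, 5, 4, 3, 2, 1],
  [2, 6, 7, 4, 2, 3, 1, 2, 6, 5, 4, 3, 1, 2, 1],
  [2, 6, 7, 6, 2, 3, 1, 2, 6, 5, 4, 3, 1, 2, 1],
  [2, 6, 7, 6, 4, 2, 3, 1, 2, 6, 5, 4, 3, 2, 1],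
  [3, 0, 1, 2, 6, 7, 2, 3, 1, 2, 6, 4, 3, 2, 1],
  [3, 0, 1, 2, 6, 7, 3, 1, 2, 6, 4, 3, 1, 2, 1],
  [3, 0, 1, 2, 6, 7, 3, 1, 2, 6, 5, 4, 3, 2, 1],
  [3, 0, 1, 2, 6, 7, 4, 3, 2, 6, 5, 4, 3, 2, 1],
  [3, 1, 2, 6, 7, 2, 3, 1, 2, 6, 4, 3, 1, 2, 1],
  [3, 1, 2, 6, 7, 2, 3, 1, 2, 6, 5, 4, 3, 2, 1],
  [3, 1, 2, 6, 7, 3, 1, 2, 6, 5, 4, 3, 1, 2, 1],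
  [3, 1, 2, 6, 7, 4, 3, 1, 2, 6, 5, 4, 3, 2, 1],
  [3, 1, 2, 6, 7, 4, 3, 2, 6, 5, 4, 3, 1, 2, 1],
  [3, 1, 2, 6, 7, 4, 3, 2, 6, 5, 4, 3, 2, 0, 1],
  [3, 1, 2, 6, 7, 6, 2, 3, 1, 2, 6, 4, 3, 2, 1],
  [3, 2, 6, 7, 2, 3, 1, 2, 6, 5, 4, 3, 1, 2, 1],
  [3, 2, 6, 7, 4, 2, 3, 1, 2, 6, 5, 4, 3, 2, 1],
  [3, 2, 6, 7, 4, 3, 1, 2, 6, 5, 4, 3, 1, 2, 1],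
  [3, 2, 6, 7, 4, 3, 2, 6, 5, 4, 2, 3, 2, 0, 1],
  [3, 2, 6, 7, 6, 2, 3, 1, 2, 6, 4, 3, 1, 2, 1],
  [3, 2, 6, 7, 6, 2, 3, 1, 2, 6, 5, 4, 3, 2, 1],
  [4, 3, 0, 1, 2, 6, 7, 3, 1, 2, 6, 4, 3, 2, 1],
  [4, 3, 1, 2, 6, 7, 2, 3, 1, 2, 6, 4, 3, 2, 1],
  [4, 3, 1, 2, 6, 7, 3, 1, 2, 6, 4, 3, 1, 2, 1],
  [4, 3, 1, 2, 6, 7, 3, 1, 2, 6, 5, 4, 3, 2, 1],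
  [4, 3, 2, 6, 7, 2, 3, 1, 2, 6, 4, 3, 1, 2, 1],
  [4, 3, 2, 6, 7, 2, 3, 1, 2, 6, 5, 4, 3, 2, 1],
  [4, 3, 2, 6, 7, 3, 1, 2, 6, 5, 4, 3, 1, 2, 1],
  [4, 3, 2, 6, 7, 4, 3, 1, 2, 6, 5, 4, 3, 2, 1],
  [4, 3, 2, 6, 7, 6, 2, 3, 1, 2, 6, 4, 3, 2, 1],
  [5, 4, 3, 1, 2, 6, 7, 3, 1, 2, 6, 4, 3, 2, 1],
  [5, 4, 3, 2, 6, 7, 1, 2, 6, 5, 4, 3, 1, 2, 1],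
  [5, 4, 3, 2, 6, 7, 2, 3, 1, 2, 6, 4, 3, 2, 1],
  [5, 4, 3, 2, 6, 7, 3, 1, 2, 6, 4, 3, 1, 2, 1],
  [5, 4, 3, 2, 6, 7, 3, 1, 2, 6, 5, 4, 3, 2, 1],
  [6, 7, 3, 4, 2, 3, 1, 2, 6, 5, 4, 3, 1, 2, 1],
  [6, 7, 6, 3, 4, 2, 3, 1, 2, 6, 5, 4, 3, 2, 1],
  [6, 7, 6, 4, 2, 3, 1, 2, 6, 5, 4, 3, 1, 2, 1],
  [7, 2, 6, 3, 4, 2, 3, 1, 2, 6, 5, 4, 3, 2, 1],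
  [7, 6, 3, 4, 2, 3, 1, 2, 6, 5, 4, 3, 1, 2, 1],
  [0, 1, 2, 6, 3, 4, 2, 3, 1, 2, 6, 5, 4, 3, 2, 1],
  [0, 1, 2, 6, 7, 2, 3, 1, 2, 6, 5, 4, 3, 1, 2, 1],
  [0, 1, 2, 6, 7, 4, 2, 3, 1, 2, 6, 5, 4, 3, 2, 1],
  [0, 1, 2, 6, 7, 4, 3, 1, 2, 6, 5, 4, 3, 1, 2, 1],
  [0, 1, 2, 6, 7, 4, 3, 2, 6, 5, 4, 2, 3, 2, 0, 1],
  [0, 1, 2, 6, 7, 6, 2, 3, 1, 2, 6, 4, 3, 1, 2, 1],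
  [0, 1, 2, 6, 7, 6, 2, 3, 1, 2, 6, 5, 4, 3, 2, 1],
  [1, 2, 6, 3, 4, 2, 3, 1, 2, 6, 5, 4, 3, 1, 2, 1],
  [1, 2, 6, 7, 3, 4, 2, 3, 1, 2, 6, 5, 4, 3, 2, 1]]

def orbitWords7 : List (List ℕ) := [
  [1, 2, 6, 7, 4, 2, 3, 1, 2, 6, 5, 4, 3, 1, 2, 1],
  [1, 2, 6, 7, 6, 2, 3, 1, 2, 6, 5, 4, 3, 1, 2, 1],
  [1, 2, 6, 7, 6, 4, 2, 3, 1, 2, 6, 5, 4, 3, 2, 1],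
  [2, 3, 0, 1, 2, 6, 7, 2, 3, 1, 2, 6, 4, 3, 2, 1],
  [2, 3, 0, 1, 2, 6, 7, 4, 3, 2, 6, 5, 4, 3, 2, 1],
  [2, 3, 1, 2, 6, 7, 2, 3, 1, 2, 6, 4, 3, 1, 2, 1],
  [2, 3, 1, 2, 6, 7, 2, 3, 1, 2, 6, 5, 4, 3, 2, 1],
  [2, 3, 1, 2, 6, 7, 4, 3, 1, 2, 6, 5, 4, 3, 2, 1],
  [2, 3, 1, 2, 6, 7, 4, 3, 2, 6, 5, 4, 3, 1, 2, 1],
  [2, 3, 1, 2, 6, 7, 4, 3, 2, 6, 5, 4, 3, 2, 0, 1],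
  [2, 3, 1, 2, 6, 7, 6, 2, 3, 1, 2, 6, 4, 3, 2, 1],
  [2, 6, 7, 3, 4, 2, 3, 1, 2, 6, 5, 4, 3, 1, 2, 1],
  [2, 6, 7, 6, 3, 4, 2, 3, 1, 2, 6, 5, 4, 3, 2, 1],
  [2, 6, 7, 6, 4, 2, 3, 1, 2, 6, 5, 4, 3, 1, 2, 1],
  [3, 0, 1, 2, 6, 7, 2, 3, 1, 2, 6, 4, 3, 1, 2, 1],
  [3, 0, 1, 2, 6, 7, 2, 3, 1, 2, 6, 5, 4, 3, 2, 1],
  [3, 0, 1, 2, 6, 7, 3, 1, 2, 6, 5, 4, 3, 1, 2, 1],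
  [3, 0, 1, 2, 6, 7, 4, 3, 1, 2, 6, 5, 4, 3, 2, 1],
  [3, 0, 1, 2, 6, 7, 4, 3, 2, 6, 5, 4, 3, 1, 2, 1],
  [3, 0, 1, 2, 6, 7, 4, 3, 2, 6, 5, 4, 3, 2, 0, 1],
  [3, 0, 1, 2, 6, 7, 6, 2, 3, 1, 2, 6, 4, 3, 2, 1],
  [3, 1, 2, 6, 7, 2, 3, 1, 2, 6, 5, 4, 3, 1, 2, 1],
  [3, 1, 2, 6, 7, 4, 2, 3, 1, 2, 6, 5, 4, 3, 2, 1],
  [3, 1, 2, 6, 7, 4, 3, 1, 2, 6, 5, 4, 3, 1, 2, 1],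
  [3, 1, 2, 6, 7, 4, 3, 2, 6, 5, 4, 2, 3, 2, 0, 1],
  [3, 1, 2, 6, 7, 6, 2, 3, 1, 2, 6, 4, 3, 1, 2, 1],
  [3, 1, 2, 6, 7, 6, 2, 3, 1, 2, 6, 5, 4, 3, 2, 1],
  [3, 2, 6, 7, 3, 4, 2, 3, 1, 2, 6, 5, 4, 3, 2, 1],
  [3, 2, 6, 7, 4, 2, 3, 1, 2, 6, 5, 4, 3, 1, 2, 1],
  [3, 2, 6, 7, 6, 2, 3, 1, 2, 6, 5, 4, 3, 1, 2, 1],
  [3, 2, 6, 7, 6, 4, 2, 3, 1, 2, 6, 5, 4, 3, 2, 1],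
  [4, 2, 3, 1, 2, 6, 7, 2, 3, 1, 2, 6, 4, 3, 2, 1],
  [4, 3, 0, 1, 2, 6, 7, 2, 3, 1, 2, 6, 4, 3, 2, 1],
  [4, 3, 0, 1, 2, 6, 7, 3, 1, 2, 6, 4, 3, 1, 2, 1],
  [4, 3, 0, 1, 2, 6, 7, 3, 1, 2, 6, 5, 4, 3, 2, 1],
  [4, 3, 1, 2, 6, 7, 2, 3, 1, 2, 6, 4, 3, 1, 2, 1],
  [4, 3, 1, 2, 6, 7, 2, 3, 1, 2, 6, 5, 4, 3, 2, 1],
  [4, 3, 1, 2, 6, 7, 3, 1, 2, 6, 5, 4, 3, 1, 2, 1],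
  [4, 3, 1, 2, 6, 7, 4, 3, 1, 2, 6, 5, 4, 3, 2, 1],
  [4, 3, 1, 2, 6, 7, 6, 2, 3, 1, 2, 6, 4, 3, 2, 1],
  [4, 3, 2, 6, 7, 2, 3, 1, 2, 6, 5, 4, 3, 1, 2, 1],
  [4, 3, 2, 6, 7, 4, 2, 3, 1, 2, 6, 5, 4, 3, 2, 1],
  [4, 3, 2, 6, 7, 4, 3, 1, 2, 6, 5, 4, 3, 1, 2, 1],
  [4, 3, 2, 6, 7, 6, 2, 3, 1, 2, 6, 4, 3, 1, 2, 1],
  [4, 3, 2, 6, 7, 6, 2, 3, 1, 2, 6, 5, 4, 3, 2, 1],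
  [5, 4, 3, 0, 1, 2, 6, 7, 3, 1, 2, 6, 4, 3, 2, 1],
  [5, 4, 3, 1, 2, 6, 7, 2, 3, 1, 2, 6, 4, 3, 2, 1],
  [5, 4, 3, 1, 2, 6, 7, 3, 1, 2, 6, 4, 3, 1, 2, 1],
  [5, 4, 3, 1, 2, 6, 7, 3, 1, 2, 6, 5, 4, 3, 2, 1],
  [5, 4, 3, 2, 6, 7, 2, 3, 1, 2, 6, 4, 3, 1, 2, 1],
  [5, 4, 3, 2, 6, 7, 2, 3, 1, 2, 6, 5, 4, 3, 2, 1],
  [5, 4, 3, 2, 6, 7, 3, 1, 2, 6, 5, 4, 3, 1, 2, 1],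
  [5, 4, 3, 2, 6, 7, 4, 3, 1, 2, 6, 5, 4, 3, 2, 1],
  [5, 4, 3, 2, 6, 7, 6, 2, 3, 1, 2, 6, 4, 3, 2, 1],
  [6, 2, 3, 1, 2, 6, 7, 4, 3, 2, 6, 5, 4, 3, 2, 1],
  [6, 7, 2, 6, 3, 4, 2, 3, 1, 2, 6, 5, 4, 3, 2, 1],
  [6, 7, 6, 3, 4, 2, 3, 1, 2, 6, 5, 4, 3, 1, 2, 1],
  [7, 1, 2, 6, 3, 4, 2, 3, 1, 2, 6, 5, 4, 3, 2, 1],
  [7, 2, 6, 3, 4, 2, 3, 1, 2, 6, 5, 4, 3, 1, 2, 1],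
  [0, 1, 2, 6, 3, 4, 2, 3, 1, 2, 6, 5, 4, 3, 1, 2, 1]]

def orbitWords8 : List (List ℕ) := [
  [0, 1, 2, 6, 7, 3, 4, 2, 3, 1, 2, 6, 5, 4, 3, 2, 1],
  [0, 1, 2, 6, 7, 4, 2, 3, 1, 2, 6, 5, 4, 3, 1, 2, 1],
  [0, 1, 2, 6, 7, 6, 2, 3, 1, 2, 6, 5, 4, 3, 1, 2, 1],
  [0, 1, 2, 6, 7, 6, 4, 2, 3, 1, 2, 6, 5, 4, 3, 2, 1],
  [1, 2, 6, 7, 3, 4, 2, 3, 1, 2, 6, 5, 4, 3, 1, 2, 1],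
  [1, 2, 6, 7, 6, 3, 4, 2, 3, 1, 2, 6, 5, 4, 3, 2, 1],
  [1, 2, 6, 7, 6, 4, 2, 3, 1, 2, 6, 5, 4, 3, 1, 2, 1],
  [2, 3, 0, 1, 2, 6, 7, 2, 3, 1, 2, 6, 5, 4, 3, 2, 1],
  [2, 3, 0, 1, 2, 6, 7, 4, 3, 1, 2, 6, 5, 4, 3, 2, 1],
  [2, 3, 0, 1, 2, 6, 7, 4, 3, 2, 6, 5, 4, 3, 1, 2, 1],
  [2, 3, 0, 1, 2, 6, 7, 4, 3, 2, 6, 5, 4, 3, 2, 0, 1],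
  [2, 3, 1, 2, 6, 7, 2, 3, 1, 2, 6, 5, 4, 3, 1, 2, 1],
  [2, 3, 1, 2, 6, 7, 4, 2, 3, 1, 2, 6, 5, 4, 3, 2, 1],
  [2, 3, 1, 2, 6, 7, 4, 3, 1, 2, 6, 5, 4, 3, 1, 2, 1],
  [2, 3, 1, 2, 6, 7, 4, 3, 2, 6, 5, 4, 2, 3, 2, 0, 1],
  [2, 3, 1, 2, 6, 7, 6, 2, 3, 1, 2, 6, 5, 4, 3, 2, 1],
  [2, 6, 7, 2, 6, 3, 4, 2, 3, 1, 2, 6, 5, 4, 3, 2, 1],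
  [2, 6, 7, 6, 3, 4, 2, 3, 1, 2, 6, 5, 4, 3, 1, 2, 1],
  [3, 0, 1, 2, 6, 7, 2, 3, 1, 2, 6, 5, 4, 3, 1, 2, 1],
  [3, 0, 1, 2, 6, 7, 4, 2, 3, 1, 2, 6, 5, 4, 3, 2, 1],
  [3, 0, 1, 2, 6, 7, 4, 3, 1, 2, 6, 5, 4, 3, 1, 2, 1],
  [3, 0, 1, 2, 6, 7, 4, 3, 2, 6, 5, 4, 2, 3, 2, 0, 1],
  [3, 0, 1, 2, 6, 7, 6, 2, 3, 1, 2, 6, 5, 4, 3, 2, 1],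
  [3, 1, 2, 6, 7, 3, 4, 2, 3, 1, 2, 6, 5, 4, 3, 2, 1],
  [3, 1, 2, 6, 7, 4, 2, 3, 1, 2, 6, 5, 4, 3, 1, 2, 1],
  [3, 1, 2, 6, 7, 6, 2, 3, 1, 2, 6, 5, 4, 3, 1, 2, 1],
  [3, 1, 2, 6, 7, 6, 4, 2, 3, 1, 2, 6, 5, 4, 3, 2, 1],
  [3, 2, 6, 7, 3, 4, 2, 3, 1, 2, 6, 5, 4, 3, 1, 2, 1],
  [3, 2, 6, 7, 6, 3, 4, 2, 3, 1, 2, 6, 5, 4, 3, 2, 1],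
  [3, 2, 6, 7, 6, 4, 2, 3, 1, 2, 6, 5, 4, 3, 1, 2, 1],
  [4, 2, 3, 1, 2, 6, 7, 2, 3, 1, 2, 6, 5, 4, 3, 2, 1],
  [4, 2, 3, 1, 2, 6, 7, 4, 3, 1, 2, 6, 5, 4, 3, 2, 1],
  [4, 3, 0, 1, 2, 6, 7, 2, 3, 1, 2, 6, 5, 4, 3, 2, 1],
  [4, 3, 0, 1, 2, 6, 7, 3, 1, 2, 6, 5, 4, 3, 1, 2, 1],
  [4, 3, 0, 1, 2, 6, 7, 4, 3, 1, 2, 6, 5, 4, 3, 2, 1],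
  [4, 3, 1, 2, 6, 7, 2, 3, 1, 2, 6, 5, 4, 3, 1, 2, 1],
  [4, 3, 1, 2, 6, 7, 4, 2, 3, 1, 2, 6, 5, 4, 3, 2, 1],
  [4, 3, 1, 2, 6, 7, 4, 3, 1, 2, 6, 5, 4, 3, 1, 2, 1],
  [4, 3, 1, 2, 6, 7, 6, 2, 3, 1, 2, 6, 5, 4, 3, 2, 1],
  [4, 3, 2, 6, 7, 3, 4, 2, 3, 1, 2, 6, 5, 4, 3, 2, 1],
  [4, 3, 2, 6, 7, 4, 2, 3, 1, 2, 6, 5, 4, 3, 1, 2, 1],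
  [4, 3, 2, 6, 7, 6, 2, 3, 1, 2, 6, 5, 4, 3, 1, 2, 1],
  [4, 3, 2, 6, 7, 6, 4, 2, 3, 1, 2, 6, 5, 4, 3, 2, 1],
  [5, 4, 2, 3, 1, 2, 6, 7, 2, 3, 1, 2, 6, 4, 3, 2, 1],
  [5, 4, 3, 0, 1, 2, 6, 7, 2, 3, 1, 2, 6, 4, 3, 2, 1],
  [5, 4, 3, 0, 1, 2, 6, 7, 3, 1, 2, 6, 4, 3, 1, 2, 1],
  [5, 4, 3, 0, 1, 2, 6, 7, 3, 1, 2, 6, 5, 4, 3, 2, 1],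
  [5, 4, 3, 1, 2, 6, 7, 2, 3, 1, 2, 6, 4, 3, 1, 2, 1],
  [5, 4, 3, 1, 2, 6, 7, 2, 3, 1, 2, 6, 5, 4, 3, 2, 1],
  [5, 4, 3, 1, 2, 6, 7, 3, 1, 2, 6, 5, 4, 3, 1, 2, 1],
  [5, 4, 3, 1, 2, 6, 7, 4, 3, 1, 2, 6, 5, 4, 3, 2, 1],
  [5, 4, 3, 1, 2, 6, 7, 6, 2, 3, 1, 2, 6, 4, 3, 2, 1],
  [5, 4, 3, 2, 6, 7, 2, 3, 1, 2, 6, 5, 4, 3, 1, 2, 1],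
  [5, 4, 3, 2, 6, 7, 4, 2, 3, 1, 2, 6, 5, 4, 3, 2, 1],
  [5, 4, 3, 2, 6, 7, 4, 3, 1, 2, 6, 5, 4, 3, 1, 2, 1],
  [5, 4, 3, 2, 6, 7, 6, 2, 3, 1, 2, 6, 4, 3, 1, 2, 1],
  [5, 4, 3, 2, 6, 7, 6, 2, 3, 1, 2, 6, 5, 4, 3, 2, 1],
  [6, 2, 3, 1, 2, 6, 7, 4, 3, 1, 2, 6, 5, 4, 3, 2, 1],
  [6, 2, 3, 1, 2, 6, 7, 4, 3, 2, 6, 5, 4, 3, 1, 2, 1],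
  [6, 2, 3, 1, 2, 6, 7, 4, 3, 2, 6, 5, 4, 3, 2, 0, 1]]

def orbitWords9 : List (List ℕ) := [
  [6, 7, 2, 6, 3, 4, 2, 3, 1, 2, 6, 5, 4, 3, 1, 2, 1],
  [7, 1, 2, 6, 3, 4, 2, 3, 1, 2, 6, 5, 4, 3, 1, 2, 1],
  [0, 1, 2, 6, 7, 3, 4, 2, 3, 1, 2, 6, 5, 4, 3, 1, 2, 1],
  [0, 1, 2, 6, 7, 6, 4, 2, 3, 1, 2, 6, 5, 4, 3, 1, 2, 1],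
  [1, 2, 6, 7, 6, 3, 4, 2, 3, 1, 2, 6, 5, 4, 3, 1, 2, 1],
  [2, 3, 0, 1, 2, 6, 7, 4, 2, 3, 1, 2, 6, 5, 4, 3, 2, 1],
  [2, 3, 0, 1, 2, 6, 7, 4, 3, 1, 2, 6, 5, 4, 3, 1, 2, 1],
  [2, 3, 0, 1, 2, 6, 7, 4, 3, 2, 6, 5, 4, 2, 3, 2, 0, 1],
  [2, 3, 1, 2, 6, 7, 3, 4, 2, 3, 1, 2, 6, 5, 4, 3, 2, 1],
  [2, 3, 1, 2, 6, 7, 4, 2, 3, 1, 2, 6, 5, 4, 3, 1, 2, 1],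
  [2, 3, 1, 2, 6, 7, 6, 4, 2, 3, 1, 2, 6, 5, 4, 3, 2, 1],
  [2, 6, 7, 2, 6, 3, 4, 2, 3, 1, 2, 6, 5, 4, 3, 1, 2, 1],
  [3, 0, 1, 2, 6, 7, 3, 4, 2, 3, 1, 2, 6, 5, 4, 3, 2, 1],
  [3, 0, 1, 2, 6, 7, 4, 2, 3, 1, 2, 6, 5, 4, 3, 1, 2, 1],
  [3, 0, 1, 2, 6, 7, 6, 4, 2, 3, 1, 2, 6, 5, 4, 3, 2, 1],
  [3, 1, 2, 6, 7, 3, 4, 2, 3, 1, 2, 6, 5, 4, 3, 1, 2, 1],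
  [3, 1, 2, 6, 7, 6, 3, 4, 2, 3, 1, 2, 6, 5, 4, 3, 2, 1],
  [3, 1, 2, 6, 7, 6, 4, 2, 3, 1, 2, 6, 5, 4, 3, 1, 2, 1],
  [3, 2, 6, 7, 2, 6, 3, 4, 2, 3, 1, 2, 6, 5, 4, 3, 2, 1],
  [3, 2, 6, 7, 6, 3, 4, 2, 3, 1, 2, 6, 5, 4, 3, 1, 2, 1],
  [3, 4, 2, 3, 1, 2, 6, 7, 2, 3, 1, 2, 6, 5, 4, 3, 2, 1],
  [4, 2, 3, 0, 1, 2, 6, 7, 2, 3, 1, 2, 6, 5, 4, 3, 2, 1],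
  [4, 2, 3, 0, 1, 2, 6, 7, 4, 3, 1, 2, 6, 5, 4, 3, 2, 1],
  [4, 2, 3, 1, 2, 6, 7, 2, 3, 1, 2, 6, 5, 4, 3, 1, 2, 1],
  [4, 2, 3, 1, 2, 6, 7, 4, 2, 3, 1, 2, 6, 5, 4, 3, 2, 1],
  [4, 2, 3, 1, 2, 6, 7, 4, 3, 1, 2, 6, 5, 4, 3, 1, 2, 1],
  [4, 2, 3, 1, 2, 6, 7, 6, 2, 3, 1, 2, 6, 5, 4, 3, 2, 1],
  [4, 3, 0, 1, 2, 6, 7, 2, 3, 1, 2, 6, 5, 4, 3, 1, 2, 1],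
  [4, 3, 0, 1, 2, 6, 7, 4, 2, 3, 1, 2, 6, 5, 4, 3, 2, 1],
  [4, 3, 0, 1, 2, 6, 7, 4, 3, 1, 2, 6, 5, 4, 3, 1, 2, 1],
  [4, 3, 0, 1, 2, 6, 7, 6, 2, 3, 1, 2, 6, 5, 4, 3, 2, 1],
  [4, 3, 1, 2, 6, 7, 3, 4, 2, 3, 1, 2, 6, 5, 4, 3, 2, 1],
  [4, 3, 1, 2, 6, 7, 4, 2, 3, 1, 2, 6, 5, 4, 3, 1, 2, 1],
  [4, 3, 1, 2, 6, 7, 6, 2, 3, 1, 2, 6, 5, 4, 3, 1, 2, 1],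
  [4, 3, 1, 2, 6, 7, 6, 4, 2, 3, 1, 2, 6, 5, 4, 3, 2, 1],
  [4, 3, 2, 6, 7, 3, 4, 2, 3, 1, 2, 6, 5, 4, 3, 1, 2, 1],
  [4, 3, 2, 6, 7, 6, 3, 4, 2, 3, 1, 2, 6, 5, 4, 3, 2, 1],
  [4, 3, 2, 6, 7, 6, 4, 2, 3, 1, 2, 6, 5, 4, 3, 1, 2, 1],
  [5, 4, 2, 3, 1, 2, 6, 7, 2, 3, 1, 2, 6, 5, 4, 3, 2, 1],
  [5, 4, 2, 3, 1, 2, 6, 7, 4, 3, 1, 2, 6, 5, 4, 3, 2, 1],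
  [5, 4, 3, 0, 1, 2, 6, 7, 2, 3, 1, 2, 6, 5, 4, 3, 2, 1],
  [5, 4, 3, 0, 1, 2, 6, 7, 3, 1, 2, 6, 5, 4, 3, 1, 2, 1],
  [5, 4, 3, 0, 1, 2, 6, 7, 4, 3, 1, 2, 6, 5, 4, 3, 2, 1],
  [5, 4, 3, 1, 2, 6, 7, 2, 3, 1, 2, 6, 5, 4, 3, 1, 2, 1],
  [5, 4, 3, 1, 2, 6, 7, 4, 2, 3, 1, 2, 6, 5, 4, 3, 2, 1],
  [5, 4, 3, 1, 2, 6, 7, 4, 3, 1, 2, 6, 5, 4, 3, 1, 2, 1],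
  [5, 4, 3, 1, 2, 6, 7, 6, 2, 3, 1, 2, 6, 5, 4, 3, 2, 1],
  [5, 4, 3, 2, 6, 7, 3, 4, 2, 3, 1, 2, 6, 5, 4, 3, 2, 1],
  [5, 4, 3, 2, 6, 7, 4, 2, 3, 1, 2, 6, 5, 4, 3, 1, 2, 1],
  [5, 4, 3, 2, 6, 7, 6, 2, 3, 1, 2, 6, 5, 4, 3, 1, 2, 1],
  [5, 4, 3, 2, 6, 7, 6, 4, 2, 3, 1, 2, 6, 5, 4, 3, 2, 1],
  [6, 2, 3, 1, 2, 6, 7, 4, 2, 3, 1, 2, 6, 5, 4, 3, 2, 1],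
  [6, 2, 3, 1, 2, 6, 7, 4, 3, 1, 2, 6, 5, 4, 3, 1, 2, 1],
  [6, 2, 3, 1, 2, 6, 7, 4, 3, 2, 6, 5, 4, 2, 3, 2, 0, 1],
  [6, 4, 2, 3, 1, 2, 6, 7, 4, 3, 1, 2, 6, 5, 4, 3, 2, 1],
  [2, 3, 0, 1, 2, 6, 7, 3, 4, 2, 3, 1, 2, 6, 5, 4, 3, 2, 1],
  [2, 3, 0, 1, 2, 6, 7, 4, 2, 3, 1, 2, 6, 5, 4, 3, 1, 2, 1],
  [2, 3, 0, 1, 2, 6, 7, 6, 4, 2, 3, 1, 2, 6, 5, 4, 3, 2, 1],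
  [2, 3, 1, 2, 6, 7, 3, 4, 2, 3, 1, 2, 6, 5, 4, 3, 1, 2, 1],
  [2, 3, 1, 2, 6, 7, 6, 3, 4, 2, 3, 1, 2, 6, 5, 4, 3, 2, 1]]

def orbitWords10 : List (List ℕ) := [
  [2, 3, 1, 2, 6, 7, 6, 4, 2, 3, 1, 2, 6, 5, 4, 3, 1, 2, 1],
  [3, 0, 1, 2, 6, 7, 3, 4, 2, 3, 1, 2, 6, 5, 4, 3, 1, 2, 1],
  [3, 0, 1, 2, 6, 7, 6, 4, 2, 3, 1, 2, 6, 5, 4, 3, 1, 2, 1],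
  [3, 1, 2, 6, 7, 6, 3, 4, 2, 3, 1, 2, 6, 5, 4, 3, 1, 2, 1],
  [3, 2, 6, 7, 2, 6, 3, 4, 2, 3, 1, 2, 6, 5, 4, 3, 1, 2, 1],
  [3, 4, 2, 3, 0, 1, 2, 6, 7, 2, 3, 1, 2, 6, 5, 4, 3, 2, 1],
  [3, 4, 2, 3, 1, 2, 6, 7, 2, 3, 1, 2, 6, 5, 4, 3, 1, 2, 1],
  [3, 4, 2, 3, 1, 2, 6, 7, 4, 2, 3, 1, 2, 6, 5, 4, 3, 2, 1],
  [3, 4, 2, 3, 1, 2, 6, 7, 6, 2, 3, 1, 2, 6, 5, 4, 3, 2, 1],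
  [4, 2, 3, 0, 1, 2, 6, 7, 4, 2, 3, 1, 2, 6, 5, 4, 3, 2, 1],
  [4, 2, 3, 0, 1, 2, 6, 7, 4, 3, 1, 2, 6, 5, 4, 3, 1, 2, 1],
  [4, 2, 3, 1, 2, 6, 7, 3, 4, 2, 3, 1, 2, 6, 5, 4, 3, 2, 1],
  [4, 2, 3, 1, 2, 6, 7, 4, 2, 3, 1, 2, 6, 5, 4, 3, 1, 2, 1],
  [4, 2, 3, 1, 2, 6, 7, 6, 4, 2, 3, 1, 2, 6, 5, 4, 3, 2, 1],
  [4, 3, 0, 1, 2, 6, 7, 3, 4, 2, 3, 1, 2, 6, 5, 4, 3, 2, 1],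
  [4, 3, 0, 1, 2, 6, 7, 4, 2, 3, 1, 2, 6, 5, 4, 3, 1, 2, 1],
  [4, 3, 0, 1, 2, 6, 7, 6, 4, 2, 3, 1, 2, 6, 5, 4, 3, 2, 1],
  [4, 3, 1, 2, 6, 7, 3, 4, 2, 3, 1, 2, 6, 5, 4, 3, 1, 2, 1],
  [4, 3, 1, 2, 6, 7, 6, 3, 4, 2, 3, 1, 2, 6, 5, 4, 3, 2, 1],
  [4, 3, 1, 2, 6, 7, 6, 4, 2, 3, 1, 2, 6, 5, 4, 3, 1, 2, 1],
  [4, 3, 2, 6, 7, 2, 6, 3, 4, 2, 3, 1, 2, 6, 5, 4, 3, 2, 1],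
  [4, 3, 2, 6, 7, 6, 3, 4, 2, 3, 1, 2, 6, 5, 4, 3, 1, 2, 1],
  [5, 3, 4, 2, 3, 1, 2, 6, 7, 2, 3, 1, 2, 6, 5, 4, 3, 2, 1],
  [5, 4, 2, 3, 0, 1, 2, 6, 7, 4, 3, 1, 2, 6, 5, 4, 3, 2, 1],
  [5, 4, 2, 3, 1, 2, 6, 7, 4, 2, 3, 1, 2, 6, 5, 4, 3, 2, 1],
  [5, 4, 2, 3, 1, 2, 6, 7, 4, 3, 1, 2, 6, 5, 4, 3, 1, 2, 1],
  [5, 4, 3, 0, 1, 2, 6, 7, 4, 2, 3, 1, 2, 6, 5, 4, 3, 2, 1],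
  [5, 4, 3, 0, 1, 2, 6, 7, 4, 3, 1, 2, 6, 5, 4, 3, 1, 2, 1],
  [5, 4, 3, 1, 2, 6, 7, 3, 4, 2, 3, 1, 2, 6, 5, 4, 3, 2, 1],
  [5, 4, 3, 1, 2, 6, 7, 4, 2, 3, 1, 2, 6, 5, 4, 3, 1, 2, 1],
  [5, 4, 3, 1, 2, 6, 7, 6, 4, 2, 3, 1, 2, 6, 5, 4, 3, 2, 1],
  [5, 4, 3, 2, 6, 7, 3, 4, 2, 3, 1, 2, 6, 5, 4, 3, 1, 2, 1],
  [5, 4, 3, 2, 6, 7, 6, 3, 4, 2, 3, 1, 2, 6, 5, 4, 3, 2, 1],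
  [5, 4, 3, 2, 6, 7, 6, 4, 2, 3, 1, 2, 6, 5, 4, 3, 1, 2, 1],
  [6, 2, 3, 1, 2, 6, 7, 3, 4, 2, 3, 1, 2, 6, 5, 4, 3, 2, 1],
  [6, 2, 3, 1, 2, 6, 7, 4, 2, 3, 1, 2, 6, 5, 4, 3, 1, 2, 1],
  [6, 2, 3, 1, 2, 6, 7, 6, 4, 2, 3, 1, 2, 6, 5, 4, 3, 2, 1],
  [6, 4, 2, 3, 1, 2, 6, 7, 4, 2, 3, 1, 2, 6, 5, 4, 3, 2, 1],
  [6, 4, 2, 3, 1, 2, 6, 7, 4, 3, 1, 2, 6, 5, 4, 3, 1, 2, 1],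
  [6, 5, 4, 2, 3, 1, 2, 6, 7, 4, 3, 1, 2, 6, 5, 4, 3, 2, 1],
  [1, 2, 3, 0, 1, 2, 6, 7, 3, 4, 2, 3, 1, 2, 6, 5, 4, 3, 2, 1],
  [2, 3, 0, 1, 2, 6, 7, 3, 4, 2, 3, 1, 2, 6, 5, 4, 3, 1, 2, 1],
  [2, 3, 0, 1, 2, 6, 7, 6, 4, 2, 3, 1, 2, 6, 5, 4, 3, 1, 2, 1],
  [2, 3, 1, 2, 6, 7, 6, 3, 4, 2, 3, 1, 2, 6, 5, 4, 3, 1, 2, 1],
  [3, 4, 2, 3, 0, 1, 2, 6, 7, 4, 2, 3, 1, 2, 6, 5, 4, 3, 2, 1],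
  [3, 4, 2, 3, 1, 2, 6, 7, 3, 4, 2, 3, 1, 2, 6, 5, 4, 3, 2, 1],
  [3, 4, 2, 3, 1, 2, 6, 7, 4, 2, 3, 1, 2, 6, 5, 4, 3, 1, 2, 1],
  [3, 4, 2, 3, 1, 2, 6, 7, 6, 4, 2, 3, 1, 2, 6, 5, 4, 3, 2, 1],
  [4, 2, 3, 0, 1, 2, 6, 7, 3, 4, 2, 3, 1, 2, 6, 5, 4, 3, 2, 1],
  [4, 2, 3, 0, 1, 2, 6, 7, 4, 2, 3, 1, 2, 6, 5, 4, 3, 1, 2, 1],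
  [4, 2, 3, 0, 1, 2, 6, 7, 6, 4, 2, 3, 1, 2, 6, 5, 4, 3, 2, 1],
  [4, 2, 3, 1, 2, 6, 7, 3, 4, 2, 3, 1, 2, 6, 5, 4, 3, 1, 2, 1],
  [4, 2, 3, 1, 2, 6, 7, 6, 3, 4, 2, 3, 1, 2, 6, 5, 4, 3, 2, 1],
  [4, 2, 3, 1, 2, 6, 7, 6, 4, 2, 3, 1, 2, 6, 5, 4, 3, 1, 2, 1],
  [4, 3, 0, 1, 2, 6, 7, 3, 4, 2, 3, 1, 2, 6, 5, 4, 3, 1, 2, 1],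
  [4, 3, 1, 2, 6, 7, 6, 3, 4, 2, 3, 1, 2, 6, 5, 4, 3, 1, 2, 1],
  [4, 3, 2, 6, 7, 2, 6, 3, 4, 2, 3, 1, 2, 6, 5, 4, 3, 1, 2, 1],
  [5, 3, 4, 2, 3, 1, 2, 6, 7, 4, 2, 3, 1, 2, 6, 5, 4, 3, 2, 1],
  [5, 4, 2, 3, 0, 1, 2, 6, 7, 4, 2, 3, 1, 2, 6, 5, 4, 3, 2, 1],
  [5, 4, 2, 3, 0, 1, 2, 6, 7, 4, 3, 1, 2, 6, 5, 4, 3, 1, 2, 1]]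

def orbitWords11 : List (List ℕ) := [
  [5, 4, 2, 3, 1, 2, 6, 7, 3, 4, 2, 3, 1, 2, 6, 5, 4, 3, 2, 1],
  [5, 4, 2, 3, 1, 2, 6, 7, 4, 2, 3, 1, 2, 6, 5, 4, 3, 1, 2, 1],
  [5, 4, 2, 3, 1, 2, 6, 7, 6, 4, 2, 3, 1, 2, 6, 5, 4, 3, 2, 1],
  [5, 4, 3, 0, 1, 2, 6, 7, 3, 4, 2, 3, 1, 2, 6, 5, 4, 3, 2, 1],
  [5, 4, 3, 1, 2, 6, 7, 3, 4, 2, 3, 1, 2, 6, 5, 4, 3, 1, 2, 1],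
  [5, 4, 3, 1, 2, 6, 7, 6, 3, 4, 2, 3, 1, 2, 6, 5, 4, 3, 2, 1],
  [5, 4, 3, 2, 6, 7, 2, 6, 3, 4, 2, 3, 1, 2, 6, 5, 4, 3, 2, 1],
  [5, 4, 3, 2, 6, 7, 6, 3, 4, 2, 3, 1, 2, 6, 5, 4, 3, 1, 2, 1],
  [6, 2, 3, 0, 1, 2, 6, 7, 3, 4, 2, 3, 1, 2, 6, 5, 4, 3, 2, 1],
  [6, 2, 3, 1, 2, 6, 7, 3, 4, 2, 3, 1, 2, 6, 5, 4, 3, 1, 2, 1],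
  [6, 2, 3, 1, 2, 6, 7, 6, 4, 2, 3, 1, 2, 6, 5, 4, 3, 1, 2, 1],
  [6, 3, 4, 2, 3, 1, 2, 6, 7, 4, 2, 3, 1, 2, 6, 5, 4, 3, 2, 1],
  [6, 4, 2, 3, 1, 2, 6, 7, 3, 4, 2, 3, 1, 2, 6, 5, 4, 3, 2, 1],
  [6, 4, 2, 3, 1, 2, 6, 7, 4, 2, 3, 1, 2, 6, 5, 4, 3, 1, 2, 1],
  [6, 4, 2, 3, 1, 2, 6, 7, 6, 4, 2, 3, 1, 2, 6, 5, 4, 3, 2, 1],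
  [6, 5, 4, 2, 3, 1, 2, 6, 7, 4, 2, 3, 1, 2, 6, 5, 4, 3, 2, 1],
  [6, 5, 4, 2, 3, 1, 2, 6, 7, 4, 3, 1, 2, 6, 5, 4, 3, 1, 2, 1],
  [1, 2, 3, 0, 1, 2, 6, 7, 3, 4, 2, 3, 1, 2, 6, 5, 4, 3, 1, 2, 1],
  [3, 4, 2, 3, 0, 1, 2, 6, 7, 3, 4, 2, 3, 1, 2, 6, 5, 4, 3, 2, 1],
  [3, 4, 2, 3, 1, 2, 6, 7, 3, 4, 2, 3, 1, 2, 6, 5, 4, 3, 1, 2, 1],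
  [3, 4, 2, 3, 1, 2, 6, 7, 6, 3, 4, 2, 3, 1, 2, 6, 5, 4, 3, 2, 1],
  [4, 1, 2, 3, 0, 1, 2, 6, 7, 3, 4, 2, 3, 1, 2, 6, 5, 4, 3, 2, 1],
  [4, 2, 3, 0, 1, 2, 6, 7, 3, 4, 2, 3, 1, 2, 6, 5, 4, 3, 1, 2, 1],
  [4, 2, 3, 1, 2, 6, 7, 6, 3, 4, 2, 3, 1, 2, 6, 5, 4, 3, 1, 2, 1],
  [5, 3, 4, 2, 3, 1, 2, 6, 7, 3, 4, 2, 3, 1, 2, 6, 5, 4, 3, 2, 1],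
  [5, 4, 2, 3, 0, 1, 2, 6, 7, 3, 4, 2, 3, 1, 2, 6, 5, 4, 3, 2, 1],
  [5, 4, 2, 3, 1, 2, 6, 7, 3, 4, 2, 3, 1, 2, 6, 5, 4, 3, 1, 2, 1],
  [5, 4, 2, 3, 1, 2, 6, 7, 6, 3, 4, 2, 3, 1, 2, 6, 5, 4, 3, 2, 1],
  [5, 4, 3, 0, 1, 2, 6, 7, 3, 4, 2, 3, 1, 2, 6, 5, 4, 3, 1, 2, 1],
  [5, 4, 3, 1, 2, 6, 7, 6, 3, 4, 2, 3, 1, 2, 6, 5, 4, 3, 1, 2, 1],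
  [5, 4, 3, 2, 6, 7, 2, 6, 3, 4, 2, 3, 1, 2, 6, 5, 4, 3, 1, 2, 1],
  [6, 2, 3, 0, 1, 2, 6, 7, 3, 4, 2, 3, 1, 2, 6, 5, 4, 3, 1, 2, 1],
  [6, 3, 4, 2, 3, 1, 2, 6, 7, 3, 4, 2, 3, 1, 2, 6, 5, 4, 3, 2, 1],
  [6, 3, 4, 2, 3, 1, 2, 6, 7, 4, 2, 3, 1, 2, 6, 5, 4, 3, 1, 2, 1],
  [6, 3, 4, 2, 3, 1, 2, 6, 7, 6, 4, 2, 3, 1, 2, 6, 5, 4, 3, 2, 1],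
  [6, 4, 2, 3, 0, 1, 2, 6, 7, 3, 4, 2, 3, 1, 2, 6, 5, 4, 3, 2, 1],
  [6, 4, 2, 3, 1, 2, 6, 7, 3, 4, 2, 3, 1, 2, 6, 5, 4, 3, 1, 2, 1],
  [6, 4, 2, 3, 1, 2, 6, 7, 6, 4, 2, 3, 1, 2, 6, 5, 4, 3, 1, 2, 1],
  [6, 5, 3, 4, 2, 3, 1, 2, 6, 7, 4, 2, 3, 1, 2, 6, 5, 4, 3, 2, 1],
  [6, 5, 4, 2, 3, 1, 2, 6, 7, 3, 4, 2, 3, 1, 2, 6, 5, 4, 3, 2, 1],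
  [6, 5, 4, 2, 3, 1, 2, 6, 7, 4, 2, 3, 1, 2, 6, 5, 4, 3, 1, 2, 1],
  [6, 5, 4, 2, 3, 1, 2, 6, 7, 6, 4, 2, 3, 1, 2, 6, 5, 4, 3, 2, 1]]

/-- Words carrying the first root to every vector of norm two. -/
def orbitWords : List (List ℕ) := orbitWords0 ++ orbitWords1 ++ orbitWords2 ++ orbitWords3 ++ orbitWords4 ++ orbitWords5 ++ orbitWords6 ++ orbitWords7 ++ orbitWords8 ++ orbitWords9 ++ orbitWords10 ++ orbitWords11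

end CfsgLib.Spor.Fi22.O7
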