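/-
Eight vectors of norm two in the orthogonal space of dimension seven over three elements and the steps by their
negated reflections, on packed coordinates.
-/
import Cfsg.Agent.Lib.Spor.Fi22.Rels
import Cfsg.Agent.Lib.Spor.Fi22.O7.Words
import Cfsg.Prelude.Def_Classical

namespace CfsgLib.Spor.Fi22.O7

open CfsgLib.Spor.TC

/-- The coordinates. -/
abbrev Ix : Type := Unit ⊕ (Fin 3 ⊕ Fin 3)

/-- The vectors. -/
abbrev Vec : Type := Ix → ZMod 3

/-- The quadratic form. -/
abbrev qf : Vec → ZMod 3 := Cfsg.quadFormOdd 3 (ZMod 3)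

/-- Packed vectors to vectors. -/
def dec (n : ℕ) : Vec
  | .inl _ => (n : ZMod 3)
  | .inr (.inl i) => ((n / 3 ^ (1 + i.1) : ℕ) : ZMod 3)
  | .inr (.inr i) => ((n / 3 ^ (4 + i.1) : ℕ) : ZMod 3)

/-- Vectors to packed vectors. -/
def enc (v : Vec) : ℕ :=
  (v (.inl ())).val + 3 * ((v (.inr (.inl 0))).val + 3 * ((v (.inr (.inl 1))).val + 3 * ((v (.inr (.inl 2))).val +
    3 * ((v (.inr (.inr 0))).val + 3 * ((v (.inr (.inr 1))).val + 3 * (v (.inr (.inr 2))).val)))))

theorem dec_enc (v : Vec) : dec (enc v) = v := by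
  have hlt : ∀ a : ZMod 3, a.val < 3 := fun a => ZMod.val_lt a
  have key : ∀ (n : ℕ) (a : ZMod 3), n % 3 = a.val → (n : ZMod 3) = a := fun n a h => by
    rw [← ZMod.natCast_mod, h, ZMod.natCast_zmod_val]
  have e : ∀ a : ℕ, ∀ r, a < 3 → (a + 3 * r) / 3 = r := fun a r h => by omega
  funext i
  have hfin : ∀ j : Fin 3, j = 0 ∨ j = 1 ∨ j = 2 := by decide
  rcases i with ⟨⟩ | i | i
  · refine key _ _ ?_
    have := hlt (v (.inl ()))
    show enc v % 3 = (v (.inl ())).val
    simp only [enc]; omega
  all_goals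
    refine key _ _ ?_
    have h1 := hlt (v (.inl ()))
    have h2 := hlt (v (.inr (.inl 0)))
    have h3 := hlt (v (.inr (.inl 1)))
    have h4 := hlt (v (.inr (.inl 2)))
    have h5 := hlt (v (.inr (.inr 0)))
    have h6 := hlt (v (.inr (.inr 1)))
    have h7 := hlt (v (.inr (.inr 2)))
    rcases hfin i with rfl | rfl | rfl <;>
    · norm_num [enc]
      omega

theorem enc_lt (v : Vec) : enc v < 2187 := by
  have hlt : ∀ a : ZMod 3, a.val < 3 := fun a => ZMod.val_lt a
  have h1 := hlt (v (.inl ()))
  have h2 := hlt (v (.inr (.inl 0)))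
  have h3 := hlt (v (.inr (.inl 1)))
  have h4 := hlt (v (.inr (.inl 2)))
  have h5 := hlt (v (.inr (.inr 0)))
  have h6 := hlt (v (.inr (.inr 1)))
  have h7 := hlt (v (.inr (.inr 2)))
  simp only [enc]; omega

theorem enc_injective : Function.Injective enc := fun v w h => by rw [← dec_enc v, h, dec_enc]

/-- The eight vectors, packed. -/
def rootCode (i : ℕ) : ℕ := [1519, 560, 1485, 1714, 335, 1852, 1500, 261].getD i 1519

/-- The eight vectors. -/
def root (i : ℕ) : Vec := dec (rootCode i)

theorem qf_root (i : ℕ) : qf (root i) = 2 := by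
  by_cases h : i < 8
  · exact (show ∀ j < 8, qf (root j) = 2 by decide +kernel) i h
  · rw [root, rootCode, List.getD_eq_default _ _ (by simpa using Nat.le_of_not_lt h)]
    decide +kernel

/-- The negated reflection in a root, on vectors. -/
def step (i : ℕ) (x : Vec) : Vec := (2 * QuadraticMap.polar qf x (root i)) • root i - x

/-- The same on packed vectors. -/
def stepC (i : ℕ) (n : ℕ) : ℕ := enc (step i (dec n))

/-- A word of steps. -/
def wordC : List ℕ → ℕ → ℕ
  | [], n => n
  | i :: w, n => stepC i (wordC w n)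

/-- A word of steps on vectors. -/
def wordV : List ℕ → Vec → Vec
  | [], x => x
  | i :: w, x => step i (wordV w x)

theorem wordV_dec : ∀ (w : List ℕ) (n : ℕ), wordV w (dec n) = dec (wordC w n)
  | [], _ => rfl
  | i :: w, n => by
    show step i (wordV w (dec n)) = dec (enc (step i (dec (wordC w n))))
    rw [dec_enc, wordV_dec w n]

theorem rels_fix : relsO.all (fun r => [1, 3, 9, 27, 81, 243, 729].all fun n =>
    Nat.beq (wordC (powWord r.1 r.2) n) n) = true := by decide +kernel

/-- The packed vectors of norm two, as a bit set, from the orbit words. -/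
def orbitMask : List (List ℕ) → ℕ
  | [] => 0
  | w :: ws => 2 ^ (wordC w 1519) ||| orbitMask ws

theorem orbitMask_covers :
    (List.range 2187).all (fun n => !(decide (qf (dec n) = 2)) || (orbitMask orbitWords).testBit n) = true := by
  decide +kernel

theorem orbitMask_spec : ∀ {ws : List (List ℕ)} {n : ℕ}, (orbitMask ws).testBit n = true →
    ∃ w ∈ ws, wordC w 1519 = n
  | [], n, h => by simp [orbitMask] at h
  | w :: ws, n, h => by
    rw [orbitMask, Nat.testBit_or, Bool.or_eq_true, Nat.testBit_two_pow] at h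
    rcases h with h | h
    · exact ⟨w, List.mem_cons_self, of_decide_eq_true h⟩
    · obtain ⟨u, hu, e⟩ := orbitMask_spec h
      exact ⟨u, List.mem_cons_of_mem _ hu, e⟩

theorem exists_word {v : Vec} (hv : qf v = 2) : ∃ w, wordV w (root 0) = v := by
  have h := List.all_eq_true.1 orbitMask_covers (enc v) (List.mem_range.2 (enc_lt v))
  rw [dec_enc, hv] at h
  simp only [decide_true, Bool.not_true, Bool.false_or] at h
  obtain ⟨w, -, e⟩ := orbitMask_spec h
  refine ⟨w, ?_⟩
  rw [root, wordV_dec, show rootCode 0 = 1519 from rfl, e, dec_enc]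

end CfsgLib.Spor.Fi22.O7
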