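/-
The subgroup generated by eight of the transpositions of the presented Fischer group is `PΩ₇(3)`.
-/
import Cfsg.Agent.Lib.Spor.Fi22.O7.Vec
import Cfsg.Agent.Lib.Spor.Fi22.Order
import Cfsg.Agent.Lib.Spor.Fi22.Cox
import Cfsg.Agent.Lib.Orth.HypInvol
import Cfsg.Agent.Lib.Orth.Centre
import Cfsg.Agent.Lib.Classical.QuadOrder

namespace CfsgLib.Spor.Fi22.O7

open CfsgLib.Spor.TC CfsgLib.Orth CfsgLib.Perm.Trans.Quad Matrix Cfsg.Geo

theorem two_ne : (2 : ZMod 3) ≠ 0 := by decide

theorem qf_nd : IsNondegenerateQuadraticForm qf := quadFormOdd_nd two_ne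

theorem root_ne (i : ℕ) : qf (root i) ≠ 0 := by rw [qf_root]; exact two_ne

/-- The reflection in a root. -/
noncomputable def refl (i : ℕ) : GL Ix (ZMod 3) := (exists_refl qf_nd (root_ne i)).choose

theorem refl_spec (i : ℕ) : refl i ∈ Cfsg.isometryGroup (ZMod 3) qf ∧ IsRefl qf (root i) (refl i) :=
  (exists_refl qf_nd (root_ne i)).choose_spec

theorem neg_mulVec_one (x : Vec) : ((-1 : GL Ix (ZMod 3)) : Matrix Ix Ix (ZMod 3)) *ᵥ x = -x := by
  rw [Units.val_neg, Units.val_one, neg_mulVec, one_mulVec]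

theorem neg_refl_mem (i : ℕ) : -refl i ∈ Cfsg.isometryGroup (ZMod 3) qf := by
  rw [mem_iso]
  intro x
  rw [Units.val_neg, neg_mulVec, qneg qf_nd, (mem_iso.1 (refl_spec i).1) x]

/-- The negated reflections. -/
noncomputable def gen (i : ℕ) : Cfsg.isometryGroup (ZMod 3) qf :=
  if i < 8 then ⟨-refl i, neg_refl_mem i⟩ else 1

/-- The matrix of an element. -/
abbrev mat (g : Cfsg.isometryGroup (ZMod 3) qf) : Matrix Ix Ix (ZMod 3) := g.1.1

theorem gen_mulVec {i : ℕ} (hi : i < 8) (x : Vec) : mat (gen i) *ᵥ x = step i x := by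
  rw [gen, if_pos hi]
  show ((-refl i : GL Ix (ZMod 3)) : Matrix Ix Ix (ZMod 3)) *ᵥ x = _
  rw [Units.val_neg, neg_mulVec, (refl_spec i).2 x, qf_root, neg_sub, step, QuadraticMap.polar_comm qf x]
  congr 2
  rw [show ((2 : ZMod 3))⁻¹ = 2 by decide +kernel]

theorem ev_gen_mulVec : ∀ {w : List ℕ}, (∀ i ∈ w, i < 8) → ∀ x : Vec, mat (ev gen w) *ᵥ x = wordV w x
  | [], _, x => one_mulVec x
  | i :: w, h, x => by
    show (mat (gen i) * mat (ev gen w)) *ᵥ x = step i (wordV w x)
    rw [← mulVec_mulVec, ev_gen_mulVec (fun j hj => h j (List.mem_cons_of_mem _ hj)) x,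
      gen_mulVec (h i List.mem_cons_self)]

theorem eq_one_of_single {g : Cfsg.isometryGroup (ZMod 3) qf}
    (h : ∀ n ∈ [1, 3, 9, 27, 81, 243, 729], mat g *ᵥ dec n = dec n) : g = 1 := by
  have hs : ∀ j : Ix, ∃ n ∈ [1, 3, 9, 27, 81, 243, 729], dec n = Pi.single j 1 := by decide +kernel
  refine Subtype.ext (Units.ext (Matrix.ext_of_mulVec_single fun j => ?_))
  obtain ⟨n, hn, e⟩ := hs j
  rw [← e]
  exact (h n hn).trans (one_mulVec (dec n)).symm

theorem gen_sat : Sat 8 relsO gen where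
  sq x := by
    by_cases hx : x < 8
    · refine eq_one_of_single fun n hn => ?_
      have hw := ev_gen_mulVec (w := [x, x]) (by simp [hx]) (dec n)
      rw [show ev gen [x, x] = gen x * gen x by simp [ev]] at hw
      rw [hw, wordV_dec]
      exact congrArg dec ((show ∀ y < 8, ∀ m ∈ [1, 3, 9, 27, 81, 243, 729], wordC [y, y] m = m by decide +kernel)
        x hx n hn)
    · rw [gen, if_neg hx, one_mul]
  rel p hp := by
    refine eq_one_of_single fun n hn => ?_
    rw [← ev_powWord]
    have hb : (∀ r ∈ relsO, ∀ y ∈ powWord r.1 r.2, y < 8) := by decide +kernel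
    rw [ev_gen_mulVec (hb p hp), wordV_dec]
    have h := List.all_eq_true.1 (List.all_eq_true.1 rels_fix p hp) n hn
    exact congrArg dec (Nat.eq_of_beq_eq_true h)
  out x hx := by rw [gen, if_neg (Nat.not_lt.2 hx)]

/-- The map to the isometries. -/
noncomputable def phi : Pres 8 relsO →* Cfsg.isometryGroup (ZMod 3) qf := presHom gen_sat

theorem phi_gen (i : ℕ) : phi (presGen 8 relsO i) = gen i := presHom_gen gen_sat i

theorem gen_mem_omega {i : ℕ} (hi : i < 8) : gen i ∈ Cfsg.Omega (ZMod 3) qf := by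
  have hker : ∀ g, Abelianization.of g = 1 → g ∈ Cfsg.Omega (ZMod 3) qf := fun g hg => by
    show g ∈ commutator (Cfsg.isometryGroup (ZMod 3) qf)
    rwa [← Abelianization.ker_of, MonoidHom.mem_ker]
  refine hker _ ?_
  let a : ℕ → Abelianization (Cfsg.isometryGroup (ZMod 3) qf) := fun j => Abelianization.of (gen j)
  have hsq : ∀ j, a j * a j = 1 := fun j => by simp only [a, ← map_mul, gen_sat.sq j, map_one]
  have hrel : ∀ p ∈ relsO, ev a p.1 ^ p.2 = 1 := fun p hp => by
    rw [show ev a p.1 = Abelianization.of (ev gen p.1) from (map_ev _ _ _).symm, ← map_pow, gen_sat.rel p hp, map_one]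
  have hbr : ∀ x y, ([x, y], 3) ∈ relsO → a x = a y := fun x y h => by
    have h3 : (a x * a y) ^ (2 + 1) = 1 := by
      have h3 := hrel _ h
      simpa [ev] using h3
    calc a x = a x * (a y * a y) := by rw [hsq, mul_one]
      _ = a x * a y * a y := (mul_assoc _ _ _).symm
      _ = a y := by
        have : a x * a y = 1 := by
          have h2 : (a x * a y) ^ 2 = 1 := by rw [sq, mul_mul_mul_comm, hsq, hsq, one_mul]
          rw [pow_succ, h2, one_mul] at h3
          exact h3
        rw [this, one_mul]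
  have e1 := hbr 0 1 (by decide)
  have e2 := hbr 1 2 (by decide)
  have e3 := hbr 2 3 (by decide)
  have e4 := hbr 3 4 (by decide)
  have e5 := hbr 4 5 (by decide)
  have e6 := hbr 2 6 (by decide)
  have e7 := hbr 6 7 (by decide)
  have h63 := hrel ([0, 1, 2, 3, 4, 5, 6], 9) (by decide)
  simp only [ev, List.map_cons, List.map_nil, List.prod_cons, List.prod_nil, mul_one, ← e6, ← e5, ← e4, ← e3, ← e2, ← e1] at h63
  have h0 : a 0 = 1 := by
    rw [show a 0 * (a 0 * (a 0 * (a 0 * (a 0 * (a 0 * a 0))))) = a 0 by simp only [hsq, mul_one]] at h63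
    rwa [show (9 : ℕ) = 2 * 4 + 1 from rfl, pow_succ, pow_mul, sq, hsq, one_pow, one_mul] at h63
  show a i = 1
  interval_cases i <;> simp only [← e7, ← e6, ← e5, ← e4, ← e3, ← e2, ← e1, h0]

theorem range_le_omega : phi.range ≤ Cfsg.Omega (ZMod 3) qf := by
  rw [phi, range_presHom, Subgroup.closure_le]
  rintro _ ⟨i, hi, rfl⟩
  exact gen_mem_omega hi

theorem root_of_le {i : ℕ} (hi : 8 ≤ i) : root i = root 0 := by
  rw [root, root, rootCode, rootCode, List.getD_eq_default _ _ (show [1519, 560, 1485, 1714, 335, 1852, 1500, 261].length ≤ i from hi)]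
  rfl

theorem exists_move {v : Vec} (hv : qf v = 2) : ∃ g ∈ phi.range, mat g *ᵥ root 0 = v := by
  obtain ⟨w, rfl⟩ := exists_word hv
  induction w with
  | nil => exact ⟨1, one_mem _, one_mulVec _⟩
  | cons i w ih =>
    have hq : qf (wordV w (root 0)) = 2 := by
      by_contra hne
      refine hne ?_
      have : ∀ (u : List ℕ), qf (wordV u (root 0)) = 2 := fun u => by
        induction u with
        | nil => exact qf_root 0
        | cons j u iu =>
          show qf (step j (wordV u (root 0))) = 2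
          rw [step, qsub qf_nd, qsmul qf_nd, qf_root, iu, psmul_left qf_nd, QuadraticMap.polar_comm qf (root j)]
          generalize QuadraticMap.polar qf (wordV u (root 0)) (root j) = b
          revert b; decide
      exact this w
    obtain ⟨g, hg, e⟩ := ih hq
    by_cases hi : i < 8
    · exact ⟨gen i * g, mul_mem ⟨_, phi_gen i⟩ hg, by
        rw [show mat (gen i * g) = mat (gen i) * mat g from rfl, ← mulVec_mulVec, e, gen_mulVec hi]; rfl⟩
    · refine ⟨gen 0 * g, mul_mem ⟨_, phi_gen 0⟩ hg, ?_⟩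
      rw [show mat (gen 0 * g) = mat (gen 0) * mat g from rfl, ← mulVec_mulVec, e, gen_mulVec (by norm_num)]
      show step 0 _ = step i _
      simp only [step, root_of_le (Nat.le_of_not_lt hi)]

theorem range_normal : phi.range.Normal := by
  refine Subgroup.normalizer_eq_top_iff.1 (top_le_iff.1 fun k _ => Subgroup.mem_normalizer_iff.2 ?_)
  have key : ∀ (k : Cfsg.isometryGroup (ZMod 3) qf) (i : ℕ), k * gen i * k⁻¹ ∈ phi.range := by
    intro k i
    by_cases hi : i < 8
    swap
    · rw [gen, if_neg hi, mul_one, mul_inv_cancel]; exact one_mem _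
    have hq : qf (mat k *ᵥ root i) = 2 := (mem_iso.1 k.2 _).trans (qf_root i)
    obtain ⟨g, hg, e⟩ := exists_move hq
    have h1 : IsRefl qf (mat k *ᵥ root i) ((k.1 : GL Ix (ZMod 3)) * refl i * (k.1)⁻¹) := (refl_spec i).2.conj k.2
    have h2 : IsRefl qf (mat g *ᵥ root 0) ((g.1 : GL Ix (ZMod 3)) * refl 0 * (g.1)⁻¹) := (refl_spec 0).2.conj g.2
    rw [e] at h2
    have h3 := h1.unique h2
    have h4 : k * gen i * k⁻¹ = g * gen 0 * g⁻¹ := by
      rw [gen, gen, if_pos hi, if_pos (by norm_num : 0 < 8)]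
      apply Subtype.ext
      show (k.1 : GL Ix (ZMod 3)) * -refl i * (k.1)⁻¹ = g.1 * -refl 0 * (g.1)⁻¹
      rw [mul_neg, neg_mul, mul_neg, neg_mul, h3]
    rw [h4]
    exact mul_mem (mul_mem hg ⟨_, phi_gen 0⟩) (inv_mem hg)
  have all : ∀ (k : Cfsg.isometryGroup (ZMod 3) qf) (h : Cfsg.isometryGroup (ZMod 3) qf), h ∈ phi.range →
      k * h * k⁻¹ ∈ phi.range := by
    intro k h hh
    rw [phi, range_presHom] at hh
    induction hh using Subgroup.closure_induction with
    | mem x hx => obtain ⟨i, -, rfl⟩ := hx; exact key k i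
    | one => rw [mul_one, mul_inv_cancel]; exact one_mem _
    | mul x y _ _ ix iy => rw [show k * (x * y) * k⁻¹ = k * x * k⁻¹ * (k * y * k⁻¹) by group]; exact mul_mem ix iy
    | inv x _ ix => rw [show k * x⁻¹ * k⁻¹ = (k * x * k⁻¹)⁻¹ by group]; exact inv_mem ix
  exact fun h => ⟨fun hh => all k h hh, fun hh => by
    have := all k⁻¹ _ hh
    rwa [show k⁻¹ * (k * h * k⁻¹) * k⁻¹⁻¹ = h by group] at this⟩

/-- The map to `Ω`. -/
noncomputable def phiOmega : Pres 8 relsO →* Cfsg.Omega (ZMod 3) qf :=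
  phi.codRestrict _ fun x => range_le_omega ⟨x, rfl⟩

/-- The map to `PΩ`. -/
noncomputable def psi : Pres 8 relsO →* Cfsg.POmega (ZMod 3) qf := (QuotientGroup.mk' _).comp phiOmega

theorem card_ix : Fintype.card Ix = 7 := rfl

theorem psi_surjective : Function.Surjective psi := by
  rw [← MonoidHom.range_eq_top]
  haveI := range_normal
  have hN : phiOmega.range = phi.range.subgroupOf (Cfsg.Omega (ZMod 3) qf) := by
    ext x
    exact ⟨fun ⟨y, hy⟩ => ⟨y, congrArg Subtype.val hy⟩, fun ⟨y, hy⟩ => ⟨y, Subtype.ext hy⟩⟩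
  haveI : phiOmega.range.Normal := hN ▸ Subgroup.normal_subgroupOf
  have hN2 : psi.range.Normal := by
    rw [psi, MonoidHom.range_comp]
    exact Subgroup.Normal.map inferInstance _ (QuotientGroup.mk'_surjective _)
  haveI : IsSimpleGroup (Cfsg.POmega (ZMod 3) qf) := pomega_isSimple qf_nd (by rw [card_ix]; norm_num)
  rcases hN2.eq_bot_or_eq_top with h | h
  swap
  · exact h
  exfalso
  have hz : phiOmega (presGen 8 relsO 0) ∈ Subgroup.center (Cfsg.Omega (ZMod 3) qf) := by
    rw [← QuotientGroup.eq_one_iff]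
    exact Subgroup.mem_bot.1 (h ▸ ⟨_, rfl⟩)
  have hm : mat (gen 0) = mat ((phiOmega (presGen 8 relsO 0)).1) := by
    rw [show (phiOmega (presGen 8 relsO 0)).1 = gen 0 from phi_gen 0]
  have hv := gen_mulVec (i := 0) (by norm_num) (dec 1)
  rcases omega_center_sign qf_nd (by rw [card_ix]; norm_num) hz with e | e
  · rw [hm, show mat ((phiOmega (presGen 8 relsO 0)).1) = 1 from e, one_mulVec] at hv
    exact absurd (congrArg enc hv) (by decide +kernel)
  · rw [hm, show mat ((phiOmega (presGen 8 relsO 0)).1) = -1 from e, neg_mulVec, one_mulVec] at hv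
    exact absurd (congrArg enc hv) (by decide +kernel)

theorem card_pomega : Nat.card (Cfsg.POmega (ZMod 3) qf) = 4585351680 := by
  have h := card_pomega_mul qf_nd (by rw [card_ix]; norm_num) (Or.inl (by rw [ZMod.card 3]; norm_num))
  have hneg : ¬ ∃ g : ↥(Cfsg.isometryGroup (ZMod 3) qf), g ∈ Cfsg.Omega (ZMod 3) qf ∧
      ((g : GL Ix (ZMod 3)) : Matrix Ix Ix (ZMod 3)) = -1 := by
    rintro ⟨g, hg, hm⟩
    have hd := Abelianization.commutator_subset_ker
      (Matrix.GeneralLinearGroup.det.comp (Cfsg.isometryGroup (ZMod 3) qf).subtype) hg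
    rw [MonoidHom.mem_ker, MonoidHom.comp_apply] at hd
    have hd' := congrArg Units.val hd
    rw [Matrix.GeneralLinearGroup.val_det_apply, Units.val_one] at hd'
    rw [show (((Cfsg.isometryGroup (ZMod 3) qf).subtype g : GL Ix (ZMod 3)) : Matrix Ix Ix (ZMod 3)) = -1 from hm,
      Matrix.det_neg, Matrix.det_one, card_ix] at hd'
    exact absurd hd' (by decide)
  rw [card_center_omega_of_not qf_nd (by rw [card_ix]; norm_num) hneg, card_sqClass_odd two_ne,
    show Nat.card (Cfsg.isometryGroup (ZMod 3) qf) = _ from CfsgLib.Classical.card_iso_odd two_ne 3, ZMod.card] at h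
  norm_num [Finset.prod_range_succ] at h
  omega

theorem psi_bijective : Function.Bijective psi := by
  haveI := Nat.finite_of_card_ne_zero card_o7_le.1
  exact psi_surjective.bijective_of_nat_card_le (card_o7_le.2.trans card_pomega.ge)

/-- The subgroup of the presented Fischer group. -/
theorem iso_bcdefghi : Nonempty
    ((Subgroup.closure ({Cfsg.Spor.Fi22.b, Cfsg.Spor.Fi22.c, Cfsg.Spor.Fi22.d, Cfsg.Spor.Fi22.e, Cfsg.Spor.Fi22.f,
      Cfsg.Spor.Fi22.g, Cfsg.Spor.Fi22.h, Cfsg.Spor.Fi22.i} : Set (FreeGroup Cfsg.Spor.Fi22.Gen))).map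
      (PresentedGroup.mk (Cfsg.Spor.coxRelators Cfsg.Spor.Fi22.edges ∪ {r | r ∈ Cfsg.Spor.Fi22.extra}))
      ≃* Cfsg.POmega (ZMod 3) qf) := by
  have hrel : ∀ r ∈ relsO, (r.1.map fun x => [1, 2, 3, 4, 5, 6, 7, 8].getD x 9, r.2) ∈ relsG := by decide +kernel
  let f := subHom (k := 9) (rels := relsG) (rels' := relsO) [1, 2, 3, 4, 5, 6, 7, 8] hrel
  have hr : f.range = presSub 9 relsG [1, 2, 3, 4, 5, 6, 7, 8] := range_subHom hrel
  have hf : Function.Bijective f.rangeRestrict := by
    haveI := Nat.finite_of_card_ne_zero card_o7_le.1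
    refine f.rangeRestrict_surjective.bijective_of_nat_card_le (card_o7_le.2.trans ?_)
    rw [hr]
    have h := Subgroup.index_mul_card (presSub 9 relsG [1, 2, 3, 4, 5, 6, 7, 8])
    rw [index_o7, card_fi22] at h
    omega
  obtain ⟨e, he⟩ := coxData.exists_equiv (k := 9) rfl rels_eq
  rw [← he [1, 2, 3, 4, 5, 6, 7, 8] _ gens_bcdefghi (by decide), ← hr]
  exact ⟨((f.range.equivMapOfInjective e.toMonoidHom e.injective).symm.trans
    (MulEquiv.ofBijective _ hf).symm).trans (MulEquiv.ofBijective psi psi_bijective)⟩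

end CfsgLib.Spor.Fi22.O7
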